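import Mathlib
import Groth.Agent.FlatDevLib.General

/-! Flatness of a base change from vanishing of the map of first Tor groups. -/

set_option autoImplicit false

noncomputable section

universe u

open TensorProduct

namespace Groth.Agent.FlatBCLib

variable {R : Type u} [CommRing R] {R' : Type u} [CommRing R'] [Algebra R R']
  {M : Type u} [AddCommGroup M] [Module R M]
  {T : Type u} [AddCommGroup T] [Module R T] [Module R' T] [IsScalarTower R R' T]

/-- `I' ⊗[R] M → I' ⊗[R'] T`. -/
abbrev toTarget (I : Ideal R) (f : M →ₗ[R] T) :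
    ↥(I.map (algebraMap R R')) ⊗[R] M →ₗ[R] ↥(I.map (algebraMap R R')) ⊗[R'] T :=
  ((TensorProduct.mapOfCompatibleSMul R' R R ↥(I.map (algebraMap R R')) T).restrictScalars R) ∘ₗ
    TensorProduct.map LinearMap.id f

/-- Lifting a kernel element to the kernel upstairs. -/
lemma exists_lift (I : Ideal R) [Module.Flat (R ⧸ I) ((R ⧸ I) ⊗[R] M)]
    {X G Y Q : Type u} [AddCommGroup X] [Module R X] [AddCommGroup G] [Module R G]
    [AddCommGroup Y] [Module R Y] [AddCommGroup Q] [Module R Q]
    (μ : X →ₗ[R] G) (π : G →ₗ[R] Q) (ω : X →ₗ[R] Y) (j : Y →ₗ[R] Q)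
    (hμ : Function.Injective μ) (hπ : Function.Surjective π) (hω : Function.Surjective ω)
    (hj : Function.Injective j) (hcomm : j ∘ₗ ω = π ∘ₗ μ)
    (hkill : ∀ a ∈ I, ∀ g : G, a • g ∈ LinearMap.range μ)
    (z : Y ⊗[R] M) (hz : j.rTensor M z = 0) :
    ∃ d : X ⊗[R] M, μ.rTensor M d = 0 ∧ ω.rTensor M d = z := by
  obtain ⟨w, rfl⟩ := LinearMap.rTensor_surjective M hω z
  have hv : π.rTensor M (μ.rTensor M w) = 0 := by
    rw [← LinearMap.comp_apply, ← LinearMap.rTensor_comp, ← hcomm, LinearMap.rTensor_comp]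
    exact hz
  obtain ⟨h, hh⟩ := (_root_.rTensor_exact (R := R) (M := LinearMap.ker π) (N := G) (P := Q) M
    (LinearMap.exact_subtype_ker_map π) hπ (μ.rTensor M w)).1 hv
  have htors : Module.IsTorsionBySet R (G ⧸ LinearMap.range μ) I := by
    intro y a
    obtain ⟨g, rfl⟩ := Submodule.Quotient.mk_surjective _ y
    rw [← Submodule.Quotient.mk_smul, Submodule.Quotient.mk_eq_zero]
    exact hkill a a.2 g
  set qH := (LinearMap.range μ).mkQ.submoduleMap (LinearMap.ker π) with hqH
  have hq0 : qH.rTensor M h = 0 := by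
    refine FlatDevLibU.rTensor_injective_of_killed I
      (FlatDevLibU.isTorsionBySet_sub htors _) htors
      ((LinearMap.ker π).map (LinearMap.range μ).mkQ).subtype Subtype.val_injective ?_
    rw [map_zero, ← LinearMap.comp_apply, ← LinearMap.rTensor_comp,
      show ((LinearMap.ker π).map (LinearMap.range μ).mkQ).subtype ∘ₗ qH =
        (LinearMap.range μ).mkQ ∘ₗ (LinearMap.ker π).subtype from rfl,
      LinearMap.rTensor_comp, LinearMap.comp_apply, hh, ← LinearMap.comp_apply, ← LinearMap.rTensor_comp,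
      show (LinearMap.range μ).mkQ ∘ₗ μ = 0 from
        LinearMap.ext fun x => (Submodule.Quotient.mk_eq_zero _).2 ⟨x, rfl⟩,
      LinearMap.rTensor_zero, LinearMap.zero_apply]
  obtain ⟨h', rfl⟩ := (_root_.rTensor_exact (R := R) (M := LinearMap.ker qH)
    (N := LinearMap.ker π) M (LinearMap.exact_subtype_ker_map qH)
    ((LinearMap.range μ).mkQ.submoduleMap_surjective _) h).1 hq0
  let e : LinearMap.ker qH →ₗ[R] X := (LinearEquiv.ofInjective μ hμ).symm.toLinearMap ∘ₗ
    LinearMap.codRestrict (LinearMap.range μ)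
      ((LinearMap.ker π).subtype ∘ₗ (LinearMap.ker qH).subtype) fun x =>
      (Submodule.Quotient.mk_eq_zero _).1 (congrArg Subtype.val x.2)
  have heμ : μ ∘ₗ e = (LinearMap.ker π).subtype ∘ₗ (LinearMap.ker qH).subtype := LinearMap.ext fun x =>
    congrArg Subtype.val ((LinearEquiv.ofInjective μ hμ).apply_symm_apply _)
  have hωe : ω ∘ₗ e = 0 := LinearMap.ext fun x => hj (by
    rw [LinearMap.zero_apply, map_zero, ← LinearMap.comp_apply j, ← LinearMap.comp_assoc, hcomm,
      LinearMap.comp_assoc, heμ]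
    exact (x : LinearMap.ker π).2)
  refine ⟨w - e.rTensor M h', ?_, ?_⟩
  · rw [map_sub, ← LinearMap.comp_apply (μ.rTensor M) (e.rTensor M), ← LinearMap.rTensor_comp, heμ,
      LinearMap.rTensor_comp, LinearMap.comp_apply, hh, sub_self]
  · rw [map_sub, ← LinearMap.comp_apply (ω.rTensor M) (e.rTensor M), ← LinearMap.rTensor_comp, hωe,
      LinearMap.rTensor_zero, LinearMap.zero_apply, sub_zero]

/-- For flat `G`, the kernel of `(G ⊗ I) ⊗ M → G ⊗ M` comes from the kernel of `I ⊗ M → M`. -/
lemma exists_ker_preimage (I : Ideal R) (G : Type u) [AddCommGroup G] [Module R G] [Module.Flat R G]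
    (d : (G ⊗[R] I) ⊗[R] M)
    (hd : ((TensorProduct.rid R G).toLinearMap ∘ₗ I.subtype.lTensor G).rTensor M d = 0) :
    ∃ t : G ⊗[R] LinearMap.ker (I.subtype.rTensor M),
      (TensorProduct.assoc R G I M).symm ((LinearMap.ker (I.subtype.rTensor M)).subtype.lTensor G t) = d := by
  let κ : ↥I ⊗[R] M →ₗ[R] M := (TensorProduct.lid R M).toLinearMap ∘ₗ I.subtype.rTensor M
  have hμκ : κ.lTensor G ∘ₗ (TensorProduct.assoc R G I M).toLinearMap =
      ((TensorProduct.rid R G).toLinearMap ∘ₗ I.subtype.lTensor G).rTensor M := by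
    refine TensorProduct.ext_threefold fun g i m => ?_
    simp [κ, TensorProduct.smul_tmul]
  have hex : Function.Exact (LinearMap.ker (I.subtype.rTensor M)).subtype κ := fun x =>
    ⟨fun h => ⟨⟨x, (TensorProduct.lid R M).injective (h.trans (map_zero _).symm)⟩, rfl⟩,
      fun ⟨y, hy⟩ => by rw [← hy]; exact (congrArg (TensorProduct.lid R M) y.2).trans (map_zero _)⟩
  obtain ⟨t, ht⟩ := (Module.Flat.lTensor_exact (R := R) (N := LinearMap.ker (I.subtype.rTensor M)) (N' := ↥I ⊗[R] M) (N'' := M) G hex (TensorProduct.assoc R G I M d)).1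
    ((LinearMap.congr_fun hμκ d).trans hd)
  exact ⟨t, by rw [ht, LinearEquiv.symm_apply_apply]⟩

/-- `(G ⊗ I) → I'` induced by `π : G → R'`. -/
def omega (I : Ideal R) {G : Type u} [AddCommGroup G] [Module R G] (π : G →ₗ[R] R') :
    G ⊗[R] I →ₗ[R] ↥(I.map (algebraMap R R')) :=
  TensorProduct.lift (LinearMap.mk₂ R
    (fun g i => π g • Algebra.idealMap R' I i) (fun g g' i => by rw [map_add, add_smul])
    (fun c g i => by rw [map_smul, smul_assoc]) (fun g i i' => by rw [map_add, smul_add])
    (fun c g i => by rw [map_smul, smul_comm]))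

lemma omega_surjective (I : Ideal R) {G : Type u} [AddCommGroup G] [Module R G] (π : G →ₗ[R] R')
    (hπ : Function.Surjective π) : Function.Surjective (omega I π) := by
  rintro ⟨x, hx⟩
  induction hx using Submodule.span_induction with
  | mem x hx =>
    obtain ⟨i, hi, rfl⟩ := hx
    obtain ⟨g, hg⟩ := hπ 1
    exact ⟨g ⊗ₜ ⟨i, hi⟩, Subtype.ext (by show π g * algebraMap R R' i = _; rw [hg, one_mul])⟩
  | zero => exact ⟨0, map_zero _⟩
  | add x y _ _ hx hy =>
    obtain ⟨a, ha⟩ := hx
    obtain ⟨b, hb⟩ := hy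
    exact ⟨a + b, by rw [map_add, ha, hb]; rfl⟩
  | smul c x _ hx =>
    obtain ⟨a, ha⟩ := hx
    have key : ∀ a : G ⊗[R] I, ∃ b, omega I π b = c • omega I π a := fun a => by
      induction a with
      | zero => exact ⟨0, by rw [map_zero, smul_zero]⟩
      | add a b ha hb =>
        obtain ⟨a', ha'⟩ := ha
        obtain ⟨b', hb'⟩ := hb
        exact ⟨a' + b', by rw [map_add, map_add, smul_add, ha', hb']⟩
      | tmul g i =>
        obtain ⟨g', hg'⟩ := hπ (c * π g)
        refine ⟨g' ⊗ₜ i, ?_⟩
        show π g' • Algebra.idealMap R' I i = c • (π g • Algebra.idealMap R' I i)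
        rw [hg', mul_smul]
    obtain ⟨b, hb⟩ := key a
    exact ⟨b, by rw [hb, ha]; rfl⟩

lemma toTarget_omega (I : Ideal R) (f : M →ₗ[R] T) {G : Type u} [AddCommGroup G] [Module R G]
    (π : G →ₗ[R] R') (g : G) (y : ↥I ⊗[R] M) :
    toTarget I f ((omega I π).rTensor M ((TensorProduct.assoc R G I M).symm (g ⊗ₜ y))) =
      π g • (TensorProduct.mapOfCompatibleSMul R' R R ↥(I.map (algebraMap R R')) T)
        ((TensorProduct.map (Algebra.idealMap R' I) f) y) := by
  induction y with
  | zero => simp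
  | add a b ha hb => simp only [tmul_add, map_add, ha, hb, smul_add]
  | tmul i m => rfl

/-- The key vanishing: the kernel of `I' ⊗[R] M → R' ⊗[R] M` dies in `I' ⊗[R'] T`. -/
theorem toTarget_eq_zero (I : Ideal R) [Module.Flat (R ⧸ I) ((R ⧸ I) ⊗[R] M)] (f : M →ₗ[R] T)
    (h3 : ∀ x : ↥I ⊗[R] M, (Submodule.subtype I).rTensor M x = 0 →
      (TensorProduct.mapOfCompatibleSMul R' R R ↥(I.map (algebraMap R R')) T)
        ((TensorProduct.map (Algebra.idealMap R' I) f) x) = 0)
    (z : ↥(I.map (algebraMap R R')) ⊗[R] M)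
    (hz : ((Submodule.subtype (I.map (algebraMap R R'))).restrictScalars R).rTensor M z = 0) :
    toTarget I f z = 0 := by
  obtain ⟨π, hπ⟩ : ∃ π : (R' →₀ R) →ₗ[R] R', Function.Surjective π :=
    ⟨Finsupp.linearCombination R id, fun r =>
      ⟨Finsupp.single r 1, (Finsupp.linearCombination_single R 1 r).trans (one_smul R r)⟩⟩
  obtain ⟨d, hd, rfl⟩ := exists_lift I
    ((TensorProduct.rid R (R' →₀ R)).toLinearMap ∘ₗ I.subtype.lTensor (R' →₀ R)) π (omega I π)
    ((Submodule.subtype (I.map (algebraMap R R'))).restrictScalars R)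
    ((TensorProduct.rid R (R' →₀ R)).injective.comp
      (Module.Flat.lTensor_preserves_injective_linearMap I.subtype Subtype.val_injective))
    hπ (omega_surjective I π hπ) Subtype.val_injective
    (TensorProduct.ext' fun g i => by
      show π g * algebraMap R R' (i : R) = π ((i : R) • g)
      rw [map_smul, Algebra.smul_def, mul_comm])
    (fun a ha g => ⟨g ⊗ₜ ⟨a, ha⟩, rfl⟩) z hz
  obtain ⟨t, rfl⟩ := exists_ker_preimage I (R' →₀ R) d hd
  clear hz hd
  induction t with
  | zero => simp only [map_zero]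
  | add a b ha hb =>
    simp only [map_add, ha, hb, add_zero]
  | tmul g x =>
    rw [LinearMap.lTensor_tmul]
    exact (toTarget_omega I f π g _).trans ((congrArg (π g • ·) (h3 _ x.2)).trans (smul_zero _))

/-- Injectivity after localisation. -/
theorem injective_of_isLocalizedModule {P : Type u} [CommRing P] [Algebra R' P] (W : Submonoid P)
    {M₁ M₂ : Type u} [AddCommGroup M₁] [Module P M₁] [Module R' M₁] [IsScalarTower R' P M₁]
    [AddCommGroup M₂] [Module P M₂] [Module R' M₂] [IsScalarTower R' P M₂]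
    (φ : M₁ →ₗ[P] M₂) [IsLocalizedModule W φ] {A B : Type u} [AddCommGroup A] [Module R' A]
    [AddCommGroup B] [Module R' B] (g : A →ₗ[R'] B)
    (h : ∀ x : A ⊗[R'] M₁, g.rTensor M₁ x = 0 → (φ.restrictScalars R').lTensor A x = 0) :
    Function.Injective (g.rTensor M₂) := by
  let φA := AlgebraTensorModule.rTensor R' A φ
  let φB := AlgebraTensorModule.rTensor R' B φ
  let g₁ := AlgebraTensorModule.lTensor P M₁ g
  let g₂ := AlgebraTensorModule.lTensor P M₂ g
  have hcomm : ∀ y, φB (g₁ y) = g₂ (φA y) := fun y => by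
    induction y with
    | zero => simp
    | add a b ha hb => simp only [map_add, ha, hb]
    | tmul m a => simp [φA, φB, g₁, g₂]
  have hinj : Function.Injective g₂ := by
    refine (injective_iff_map_eq_zero g₂).2 fun x hx => ?_
    obtain ⟨⟨y, p⟩, hp⟩ := IsLocalizedModule.surj W φA x
    have h0 : φB (g₁ y) = 0 := by rw [hcomm, ← hp, Submonoid.smul_def, map_smul, hx, smul_zero]
    obtain ⟨q, hq⟩ := (IsLocalizedModule.eq_zero_iff W φB).1 h0
    have h1 : g₁ ((q : P) • y) = 0 := by rw [map_smul]; exact hq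
    have h2 : φA ((q : P) • y) = 0 := by
      have hc : ∀ y : M₁ ⊗[R'] A,
          g.rTensor M₁ (TensorProduct.comm R' M₁ A y) = TensorProduct.comm R' M₁ B (g₁ y) ∧
            (φ.restrictScalars R').lTensor A (TensorProduct.comm R' M₁ A y) =
              TensorProduct.comm R' M₂ A (φA y) := fun y => by
        induction y with
        | zero => simp
        | add a b ha hb => simp only [map_add, ha.1, hb.1, ha.2, hb.2, and_self]
        | tmul m a => simp [φA, g₁]
      have h5 := h _ ((hc _).1.trans (by rw [h1, map_zero]))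
      rw [(hc _).2] at h5
      exact (TensorProduct.comm R' M₂ A).injective (h5.trans (map_zero _).symm)
    rw [map_smul, ← hp, ← Submonoid.smul_def] at h2
    have h6 : q • p • x = (0 : M₂ ⊗[R'] A) := h2
    rw [← smul_zero q] at h6
    have h7 := IsLocalizedModule.smul_injective φA q h6
    rw [← smul_zero p] at h7
    exact IsLocalizedModule.smul_injective φA p h7
  have hg : g.rTensor M₂ = (TensorProduct.comm R' M₂ B).toLinearMap ∘ₗ (g₂.restrictScalars R') ∘ₗ
      (TensorProduct.comm R' A M₂).toLinearMap := TensorProduct.ext' fun a m => by simp [g₂]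
  rw [hg]
  exact (TensorProduct.comm R' M₂ B).injective.comp (hinj.comp (TensorProduct.comm R' A M₂).injective)

end Groth.Agent.FlatBCLib
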